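import Mathlib

/-!
# Fixed points of Sylow subgroups in groups generated by `p`-elements

Let `G` be generated by its `p`-elements, acting on `X` without global fixed points, `P` Sylow,
`f` the number of fixed points of `P` and `u` the number of moved points.
Then `p * f ≤ (p - 1) * u`.
-/

set_option autoImplicit false

namespace Cfsg.Agent.SylFix

open scoped BigOperators
open Classical

universe u v

section Basics

variable (p : ℕ) [hp : Fact p.Prime]
variable {G : Type u} [Group G]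

/-- `p`-elements. -/
def IsPEl (g : G) : Prop := ∃ k : ℕ, g ^ p ^ k = 1

/-- The conjugate of a subgroup. -/
def cj (g : G) (K : Subgroup G) : Subgroup G where
  carrier := {x | g⁻¹ * x * g ∈ K}
  mul_mem' := by
    intro a b ha hb
    have e : g⁻¹ * (a * b) * g = (g⁻¹ * a * g) * (g⁻¹ * b * g) := by group
    show g⁻¹ * (a * b) * g ∈ K
    rw [e]
    exact K.mul_mem ha hb
  one_mem' := by
    show g⁻¹ * 1 * g ∈ K
    simp [K.one_mem]
  inv_mem' := by
    intro a ha
    have e : g⁻¹ * a⁻¹ * g = (g⁻¹ * a * g)⁻¹ := by group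
    show g⁻¹ * a⁻¹ * g ∈ K
    rw [e]
    exact K.inv_mem ha

lemma mem_cj {g x : G} {K : Subgroup G} : x ∈ cj g K ↔ g⁻¹ * x * g ∈ K := Iff.rfl

lemma cj_one (K : Subgroup G) : cj (1 : G) K = K := by
  ext x; simp [mem_cj]

lemma cj_mul (g h : G) (K : Subgroup G) : cj (g * h) K = cj g (cj h K) := by
  ext x
  simp only [mem_cj]
  have e : (g * h)⁻¹ * x * (g * h) = h⁻¹ * (g⁻¹ * x * g) * h := by group
  rw [e]

lemma cj_inv_cj (g : G) (K : Subgroup G) : cj g⁻¹ (cj g K) = K := by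
  rw [← cj_mul, inv_mul_cancel, cj_one]

lemma cj_cj_inv (g : G) (K : Subgroup G) : cj g (cj g⁻¹ K) = K := by
  rw [← cj_mul, mul_inv_cancel, cj_one]

lemma cj_of_mem {k : G} {K : Subgroup G} (hk : k ∈ K) : cj k K = K := by
  ext x
  simp only [mem_cj]
  constructor
  · intro h
    have := K.mul_mem (K.mul_mem hk h) (K.inv_mem hk)
    have e : k * (k⁻¹ * x * k) * k⁻¹ = x := by group
    rwa [e] at this
  · intro h
    exact K.mul_mem (K.mul_mem (K.inv_mem hk) h) hk

lemma cj_le_cj {g : G} {A B : Subgroup G} : cj g A ≤ cj g B ↔ A ≤ B := by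
  constructor
  · intro h x hx
    have h1 : g * x * g⁻¹ ∈ cj g A := by
      show g⁻¹ * (g * x * g⁻¹) * g ∈ A
      have e : g⁻¹ * (g * x * g⁻¹) * g = x := by group
      rwa [e]
    have h2 := h h1
    have e : g⁻¹ * (g * x * g⁻¹) * g = x := by group
    rw [mem_cj, e] at h2
    exact h2
  · intro h x hx
    exact h hx

lemma card_cj [Finite G] (g : G) (K : Subgroup G) : Nat.card (cj g K) = Nat.card K := by
  refine Nat.card_congr ⟨fun x => ⟨g⁻¹ * x * g, x.2⟩, fun y => ⟨g * y * g⁻¹, ?_⟩, ?_, ?_⟩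
  · show g⁻¹ * (g * y * g⁻¹) * g ∈ K
    have e : g⁻¹ * (g * (y : G) * g⁻¹) * g = y := by group
    rw [e]; exact y.2
  · intro x; apply Subtype.ext; show g * (g⁻¹ * (x : G) * g) * g⁻¹ = x; group
  · intro y; apply Subtype.ext; show g⁻¹ * (g * (y : G) * g⁻¹) * g = y; group

lemma isPEl_conj (g : G) {x : G} (h : IsPEl p x) : IsPEl p (g⁻¹ * x * g) := by
  obtain ⟨k, hk⟩ := h
  refine ⟨k, ?_⟩
  have e : g⁻¹ * x * g = g⁻¹ * x * (g⁻¹)⁻¹ := by simp
  rw [e, conj_pow, hk]
  simp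

lemma isPEl_of_mem (R : Sylow p G) {r : G} (hr : r ∈ (R : Subgroup G)) : IsPEl p r := by
  obtain ⟨k, hk⟩ := R.isPGroup' ⟨r, hr⟩
  refine ⟨k, ?_⟩
  have := congrArg Subtype.val hk
  simpa using this

/-- The subgroup generated by the `p`-elements of a subgroup. -/
def O (X : Subgroup G) : Subgroup G := Subgroup.closure {g | g ∈ X ∧ IsPEl p g}

lemma O_le (X : Subgroup G) : O p X ≤ X := by
  rw [O, Subgroup.closure_le]
  exact fun g hg => hg.1

lemma mem_O {X : Subgroup G} {g : G} (h : g ∈ X) (hg : IsPEl p g) : g ∈ O p X :=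
  Subgroup.subset_closure ⟨h, hg⟩

lemma O_O (X : Subgroup G) : O p (O p X) = O p X := by
  apply le_antisymm (O_le p _)
  rw [O, O, Subgroup.closure_le]
  intro g hg
  exact Subgroup.subset_closure ⟨Subgroup.subset_closure hg, hg.2⟩

lemma O_cj_le (g : G) (X : Subgroup G) : O p (cj g X) ≤ cj g (O p X) := by
  rw [O, Subgroup.closure_le]
  rintro x ⟨h1, h2⟩
  exact mem_O p h1 (isPEl_conj p g h2)

lemma O_cj (g : G) (X : Subgroup G) : O p (cj g X) = cj g (O p X) := by
  apply le_antisymm (O_cj_le p g X)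
  have h := O_cj_le p g⁻¹ (cj g X)
  rw [cj_inv_cj] at h
  intro x hx
  have h2 := h hx
  rw [mem_cj, inv_inv] at h2
  have e : g * (g⁻¹ * x * g) * g⁻¹ = x := by group
  rwa [e] at h2

lemma mem_normalizer_of_cj {g : G} {K : Subgroup G} (h : cj g K = K) : g ∈ Subgroup.normalizer (K : Set G) := by
  rw [Subgroup.mem_normalizer_iff]
  intro x
  constructor
  · intro hx
    have h1 : g * x * g⁻¹ ∈ cj g K := by
      show g⁻¹ * (g * x * g⁻¹) * g ∈ K
      have e : g⁻¹ * (g * x * g⁻¹) * g = x := by group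
      rwa [e]
    rwa [h] at h1
  · intro hx
    rw [← h] at hx
    have e : g⁻¹ * (g * x * g⁻¹) * g = x := by group
    rw [mem_cj, e] at hx
    exact hx

/-- A `p`-element normalizing a subgroup which contains a Sylow subgroup lies in it. -/
lemma mem_of_normalizes [Finite G] {K : Subgroup G} (R : Sylow p G)
    (hRK : (R : Subgroup G) ≤ K) {x : G} (hx : IsPEl p x) (hn : x ∈ Subgroup.normalizer (K : Set G)) : x ∈ K := by
  let N := Subgroup.normalizer (K : Set G)
  let K' := K.subgroupOf N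
  haveI : K'.Normal := Subgroup.normal_in_normalizer
  let x' : N := ⟨x, hn⟩
  have h1 := Subgroup.pow_index_mem K' x'
  have h2 : ¬ p ∣ K.index := fun h => R.not_dvd_index (h.trans (Subgroup.index_dvd_of_le hRK))
  have h3 : K'.index ∣ K.index :=
    ⟨N.index, (Subgroup.relIndex_mul_index (Subgroup.le_normalizer)).symm⟩
  have h4 : ¬ p ∣ K'.index := fun h => h2 (h.trans h3)
  obtain ⟨k, hk⟩ := hx
  have hk' : x' ^ p ^ k = 1 := Subtype.ext (by simpa [x'] using hk)
  have h5 : orderOf x' ∣ p ^ k := orderOf_dvd_of_pow_eq_one hk'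
  have h6 : K'.index.Coprime (orderOf x') := by
    apply Nat.Coprime.coprime_dvd_right h5
    exact Nat.Coprime.pow_right _ ((Nat.Prime.coprime_iff_not_dvd hp.out).2 h4).symm
  obtain ⟨m, hm⟩ := exists_pow_eq_self_of_coprime h6
  have h7 : x' ∈ K' := by
    rw [← hm]
    exact K'.pow_mem h1 m
  exact h7

lemma coe_smul_eq_cj (g : G) (R : Sylow p G) : ((g • R : Sylow p G) : Subgroup G) = cj g R := by
  ext x
  rw [Sylow.coe_subgroup_smul, Subgroup.mem_pointwise_smul_iff_inv_smul_mem, mem_cj]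
  simp [MulAut.smul_def]

section Act

variable {X : Type v} [MulAction G X]

lemma key_block [Finite G] {Y : Set X} {x : G} (hx : IsPEl p x)
    (hinv : ∀ y ∈ Y, x • y ∈ Y ∧ x⁻¹ • y ∈ Y) {a : X} (ha : a ∈ Y) (hax : x • a ≠ a)
    (R : Sylow p G) : ∃ y ∈ Y, ∃ r ∈ (R : Subgroup G), r • y ≠ y := by
  by_contra hcon
  push Not at hcon
  let K := fixingSubgroup G Y
  have hRK : (R : Subgroup G) ≤ K := fun r hr => by
    rw [mem_fixingSubgroup_iff]
    exact fun y hy => hcon y hy r hr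
  have hn : x ∈ Subgroup.normalizer (K : Set G) := by
    rw [Subgroup.mem_normalizer_iff]
    intro k
    constructor
    · intro hk
      rw [mem_fixingSubgroup_iff] at hk ⊢
      intro y hy
      rw [mul_smul, mul_smul, hk _ (hinv y hy).2, smul_inv_smul]
    · intro hk
      rw [mem_fixingSubgroup_iff] at hk ⊢
      intro y hy
      have := hk (x • y) (hinv y hy).1
      rw [mul_smul, mul_smul, inv_smul_smul] at this
      exact smul_left_cancel x this
  have h := mem_of_normalizes p R hRK hx hn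
  rw [mem_fixingSubgroup_iff] at h
  exact hax (h a ha)

lemma exists_block_elt {x : G} (hx : IsPEl p x) {a : X} (hax : x • a ≠ a) :
    ∃ x' : G, IsPEl p x' ∧ x' • a ≠ a ∧ x' ^ p • a = a := by
  obtain ⟨k, hk⟩ := hx
  have hex : ∃ j, x ^ p ^ j • a = a := ⟨k, by rw [hk, one_smul]⟩
  have hj : x ^ p ^ (Nat.find hex) • a = a := Nat.find_spec hex
  have hj0 : Nat.find hex ≠ 0 := by
    intro h
    rw [h] at hj
    simp only [pow_zero, pow_one] at hj
    exact hax hj
  obtain ⟨i, hi⟩ := Nat.exists_eq_succ_of_ne_zero hj0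
  refine ⟨x ^ p ^ i, ⟨k, ?_⟩, ?_, ?_⟩
  · rw [← pow_mul, mul_comm, pow_mul, hk, one_pow]
  · exact Nat.find_min hex (by omega : i < Nat.find hex)
  · rw [← pow_mul, ← pow_succ, ← Nat.succ_eq_add_one, ← hi]
    exact hj

lemma exists_nonfix [Finite G] {x : G} (hx : IsPEl p x) {a : X} (hax : x • a ≠ a) :
    ∃ Y : Finset X, a ∈ Y ∧ Y.card ≤ p ∧ (∀ y ∈ Y, ∃ g : G, y = g • a) ∧
      ∀ R : Sylow p G, ∃ y ∈ Y, ∃ r ∈ (R : Subgroup G), r • y ≠ y := by
  obtain ⟨x', hx', h1, h2⟩ := exists_block_elt p hx hax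
  have hppos : 0 < p := hp.out.pos
  let Y : Finset X := (Finset.range p).image (fun i => x' ^ i • a)
  have hmem : ∀ y, y ∈ Y ↔ ∃ i, i < p ∧ x' ^ i • a = y := by
    intro y
    simp [Y]
  have ha : a ∈ Y := (hmem a).2 ⟨0, hppos, by simp⟩
  refine ⟨Y, ha, ?_, ?_, ?_⟩
  · exact (Finset.card_image_le).trans (by simp)
  · intro y hy
    obtain ⟨i, _, rfl⟩ := (hmem y).1 hy
    exact ⟨_, rfl⟩
  · intro R
    have hinv : ∀ y ∈ (Y : Set X), x' • y ∈ (Y : Set X) ∧ x'⁻¹ • y ∈ (Y : Set X) := by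
      intro y hy
      obtain ⟨i, hi, rfl⟩ := (hmem y).1 hy
      constructor
      · by_cases hi2 : i + 1 < p
        · exact (hmem _).2 ⟨i + 1, hi2, by rw [pow_succ', mul_smul]⟩
        · have hip : i + 1 = p := by omega
          have e : x' • x' ^ i • a = x' ^ (i + 1) • a := by rw [pow_succ', mul_smul]
          rw [e, hip, h2]
          exact ha
      · rcases Nat.eq_zero_or_pos i with rfl | hipos
        · refine (hmem _).2 ⟨p - 1, by omega, ?_⟩
          simp only [pow_zero, one_smul]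
          rw [eq_inv_smul_iff, ← mul_smul, ← pow_succ', Nat.sub_add_cancel hppos, h2]
        · refine (hmem _).2 ⟨i - 1, by omega, ?_⟩
          rw [eq_inv_smul_iff, ← mul_smul, ← pow_succ', Nat.sub_add_cancel hipos]
    obtain ⟨y, hy, r, hr, hne⟩ := key_block p hx' hinv (Finset.mem_coe.2 ha) h1 R
    exact ⟨y, hy, r, hr, hne⟩

end Act

/-- Weights on subgroups. -/
noncomputable def w (R K : Subgroup G) : ℤ := if R ≤ K then -(p : ℤ) else (p : ℤ) - 1

/-- Weights on points. -/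
noncomputable def wt {X : Type v} [MulAction G X] (R : Subgroup G) (ω : X) : ℤ :=
  if ∀ r ∈ R, r • ω = ω then -(p : ℤ) else (p : ℤ) - 1

/-- Good subgroups. -/
def Good [Finite G] (K : Subgroup G) : Prop :=
  O p K = K ∧ (∃ R : Sylow p G, (R : Subgroup G) ≤ K) ∧ K ≠ ⊤

lemma good_cj [Finite G] {K : Subgroup G} (h : Good p K) (g : G) : Good p (cj g K) := by
  obtain ⟨h1, ⟨R, hR⟩, h3⟩ := h
  refine ⟨by rw [O_cj, h1], ⟨g • R, ?_⟩, ?_⟩
  · rw [coe_smul_eq_cj]
    exact cj_le_cj.2 hR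
  · intro h4
    apply h3
    rw [← cj_inv_cj g K, h4]
    ext x
    simp [mem_cj]

lemma sum_w_indep [Finite G] (F : Finset (Subgroup G)) (hst : ∀ K ∈ F, ∀ g, cj g K ∈ F)
    (P R : Sylow p G) : ∑ K ∈ F, w p (P : Subgroup G) K = ∑ K ∈ F, w p (R : Subgroup G) K := by
  obtain ⟨g, rfl⟩ := MulAction.exists_smul_eq G R P
  rw [coe_smul_eq_cj]
  refine Finset.sum_nbij' (fun K => cj g⁻¹ K) (fun K => cj g K)
    (fun K hK => hst K hK _) (fun K hK => hst K hK _) (fun K _ => cj_cj_inv g K)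
    (fun K _ => cj_inv_cj g K) ?_
  intro K _
  have h : cj g (R : Subgroup G) ≤ K ↔ (R : Subgroup G) ≤ cj g⁻¹ K := by
    have := cj_le_cj (g := g) (A := (R : Subgroup G)) (B := cj g⁻¹ K)
    rwa [cj_cj_inv] at this
  simp only [w, h]

end Basics

/-- The inductive statement. -/
def Hyp (p : ℕ) [Fact p.Prime] (n : ℕ) : Prop :=
  ∀ (H : Type u) [Group H] [Finite H], Nat.card H < n →
    Subgroup.closure {g : H | IsPEl p g} = ⊤ →
    ∀ (X : Type u) [MulAction H X] [Fintype X], (∀ ω : X, ∃ g : H, g • ω ≠ ω) →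
    ∀ Y : Finset X, (∀ R : Sylow p H, ∃ y ∈ Y, ∃ r ∈ (R : Subgroup H), r • y ≠ y) →
    ∀ P : Sylow p H, (p : ℤ) * ((p : ℤ) - Y.card) ≤ ∑ ω : X, wt p (P : Subgroup H) ω

section Main

variable (p : ℕ) [hp : Fact p.Prime]
variable {G : Type u} [Group G] [Finite G]

/-- The main step. -/
theorem stepM (IH : Hyp.{u} p (Nat.card G)) (F Y : Finset (Subgroup G))
    (hF : ∀ K ∈ F, Good p K) (hst : ∀ K ∈ F, ∀ g, cj g K ∈ F) (hsub : Y ⊆ F)
    (hcov : ∀ K ∈ F, ∃ K₀ ∈ Y, ∃ g, K = cj g K₀)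
    (hnf : ∀ R : Sylow p G, ∃ K₀ ∈ Y, ¬ (R : Subgroup G) ≤ K₀) (P : Sylow p G) :
    (p : ℤ) * ((p : ℤ) - Y.card) ≤ ∑ K ∈ F, w p (P : Subgroup G) K := by
  obtain ⟨K₁, hK₁, _⟩ := hnf P
  obtain ⟨K, hK, hmax⟩ := Finset.exists_max_image Y (fun K => Nat.card K) ⟨K₁, hK₁⟩
  have hKF := hsub hK
  obtain ⟨hO, ⟨R, hRK⟩, hne⟩ := hF K hKF
  rw [sum_w_indep p F hst P R]
  have hcard : Nat.card K < Nat.card G := by
    have h1 : Nat.card K ≤ Nat.card G := Subgroup.card_le_card_group K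
    refine lt_of_le_of_ne h1 fun h2 => hne (Subgroup.eq_top_of_card_eq K h2)
  have hgen : Subgroup.closure {g : K | IsPEl p g} = ⊤ := by
    apply Subgroup.map_injective K.subtype_injective
    rw [MonoidHom.map_closure, ← MonoidHom.range_eq_map, Subgroup.range_subtype]
    conv_rhs => rw [← hO]
    rw [O]
    congr 1
    ext x
    constructor
    · rintro ⟨y, hy, rfl⟩
      obtain ⟨k, hk⟩ := hy
      refine ⟨y.2, k, ?_⟩
      have := congrArg Subtype.val hk
      simpa using this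
    · rintro ⟨hx, k, hk⟩
      exact ⟨⟨x, hx⟩, ⟨k, Subtype.ext (by simpa using hk)⟩, rfl⟩
  have hfix : ∀ {x : G} {K' : Subgroup G}, K' ∈ F → IsPEl p x → cj x K' = K' → x ∈ K' := by
    intro x K' hK' hx hc
    obtain ⟨_, ⟨R', hR'⟩, _⟩ := hF K' hK'
    exact mem_of_normalizes p R' hR' hx (mem_normalizer_of_cj hc)
  let Ω' := ↥(F.erase K)
  letI act : MulAction ↥K Ω' :=
    { smul := fun k K' => ⟨cj (k : G) K'.1, by
        obtain ⟨K'', hK''⟩ := K'
        have h1 := Finset.mem_erase.1 hK''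
        refine Finset.mem_erase.2 ⟨?_, hst _ h1.2 _⟩
        intro h2
        apply h1.1
        have h3 : cj (k : G)⁻¹ (cj (k : G) K'') = cj (k : G)⁻¹ K := by rw [h2]
        rw [cj_inv_cj, cj_of_mem (K.inv_mem k.2)] at h3
        exact h3⟩
      one_smul := by
        intro K'
        apply Subtype.ext
        exact cj_one _
      mul_smul := by
        intro a b K'
        apply Subtype.ext
        exact cj_mul _ _ _ }
  have hsmul : ∀ (k : ↥K) (ω : Ω'), ((k • ω : Ω') : Subgroup G) = cj (k : G) ω.1 := fun _ _ => rfl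
  have hnofix : ∀ ω : Ω', ∃ k : ↥K, k • ω ≠ ω := by
    intro ω
    by_contra hcon
    push Not at hcon
    have hωF : ω.1 ∈ F := (Finset.mem_erase.1 ω.2).2
    have hle : K ≤ ω.1 := by
      have h0 : O p K ≤ ω.1 := by
        rw [O, Subgroup.closure_le]
        rintro x ⟨hx1, hx2⟩
        have h1 := congrArg Subtype.val (hcon ⟨x, hx1⟩)
        exact hfix hωF hx2 h1
      rwa [hO] at h0
    obtain ⟨K₀, hK₀, g, hg⟩ := hcov ω.1 hωF
    have hc : Nat.card ω.1 ≤ Nat.card K := by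
      rw [hg, card_cj]
      exact hmax K₀ hK₀
    exact (Finset.mem_erase.1 ω.2).1 (Subgroup.eq_of_le_of_card_ge hle hc).symm
  let R₁ : Sylow p ↥K := R.subtype hRK
  let Y' : Finset Ω' := (Y.erase K).subtype (· ∈ F.erase K)
  have hY' : ∀ R' : Sylow p ↥K, ∃ y ∈ Y', ∃ r ∈ (R' : Subgroup ↥K), r • y ≠ y := by
    intro R'
    obtain ⟨k, hk⟩ := MulAction.exists_smul_eq ↥K R₁ R'
    obtain ⟨K₀, hK₀, hnle⟩ := hnf ((k : G) • R)
    rw [coe_smul_eq_cj] at hnle
    have hle : cj (k : G) (R : Subgroup G) ≤ K := by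
      have := cj_le_cj (g := (k : G)).2 hRK
      rwa [cj_of_mem k.2] at this
    have hK₀K : K₀ ≠ K := by
      rintro rfl
      exact hnle hle
    have hmemE : K₀ ∈ F.erase K := Finset.mem_erase.2 ⟨hK₀K, hsub hK₀⟩
    refine ⟨⟨K₀, hmemE⟩, ?_, ?_⟩
    · exact Finset.mem_subtype.2 (Finset.mem_erase.2 ⟨hK₀K, hK₀⟩)
    · by_contra hcon
      push Not at hcon
      apply hnle
      intro x hx
      have hxK : x ∈ K := hle hx
      have hxR' : (⟨x, hxK⟩ : ↥K) ∈ (R' : Subgroup ↥K) := by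
        rw [← hk, coe_smul_eq_cj, mem_cj]
        show _ ∈ ((R.subtype hRK : Sylow p ↥K) : Subgroup ↥K)
        rw [Sylow.coe_subtype, Subgroup.mem_subgroupOf]
        exact hx
      have h1 := hcon _ hxR'
      have h2 := congrArg Subtype.val h1
      have hxp : IsPEl p x := by
        have h3 := isPEl_of_mem p R (r := (k : G)⁻¹ * x * (k : G)) hx
        have h4 := isPEl_conj p (k : G)⁻¹ h3
        have e : ((k : G)⁻¹)⁻¹ * ((k : G)⁻¹ * x * (k : G)) * (k : G)⁻¹ = x := by group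
        rwa [e] at h4
      exact hfix (hsub hK₀) hxp h2
  have hmain := IH ↥K hcard hgen Ω' hnofix Y' hY' R₁
  have hconv : ∀ ω : Ω', wt p (R₁ : Subgroup ↥K) ω = w p (R : Subgroup G) ω.1 := by
    intro ω
    have hωF : ω.1 ∈ F := (Finset.mem_erase.1 ω.2).2
    have hiff : (∀ r ∈ (R₁ : Subgroup ↥K), r • ω = ω) ↔ (R : Subgroup G) ≤ ω.1 := by
      constructor
      · intro h x hx
        have hxR : (⟨x, hRK hx⟩ : ↥K) ∈ (R₁ : Subgroup ↥K) := by
          show _ ∈ ((R.subtype hRK : Sylow p ↥K) : Subgroup ↥K)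
          rw [Sylow.coe_subtype, Subgroup.mem_subgroupOf]
          exact hx
        have h2 := congrArg Subtype.val (h _ hxR)
        exact hfix hωF (isPEl_of_mem p R hx) h2
      · intro h r hr
        apply Subtype.ext
        have hr' : (r : G) ∈ (R : Subgroup G) := by
          have : r ∈ ((R.subtype hRK : Sylow p ↥K) : Subgroup ↥K) := hr
          rw [Sylow.coe_subtype, Subgroup.mem_subgroupOf] at this
          exact this
        exact cj_of_mem (h hr')
    simp only [wt, w, hiff]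
  have hsum : ∑ ω : Ω', wt p (R₁ : Subgroup ↥K) ω = ∑ K' ∈ F.erase K, w p (R : Subgroup G) K' := by
    rw [← Finset.sum_coe_sort (F.erase K)]
    exact Finset.sum_congr rfl fun ω _ => hconv ω
  rw [hsum] at hmain
  rw [← Finset.add_sum_erase F _ hKF]
  have hwK : w p (R : Subgroup G) K = -(p : ℤ) := by
    simp only [w, if_pos hRK]
  rw [hwK]
  have hY'card : (Y'.card : ℤ) ≤ (Y.card : ℤ) - 1 := by
    have h1 : Y'.card ≤ (Y.erase K).card :=
      (Finset.card_subtype _ _).le.trans (Finset.card_filter_le _ _)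
    have h2 := Finset.card_erase_of_mem hK
    have h3 : 0 < Y.card := Finset.card_pos.2 ⟨K, hK⟩
    omega
  have hp0 : (0 : ℤ) < p := by exact_mod_cast hp.out.pos
  nlinarith

end Main

end Cfsg.Agent.SylFix
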