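import Cfsg.Agent.Lib.SylFix.Orbits

/-!
# Numbers of Sylow subgroups of subgroups, and stabilizers of partitions
-/

set_option autoImplicit false

namespace Cfsg.Agent.SylFix

open scoped BigOperators Pointwise
open Classical

universe u v

section

variable (p : ℕ) [hp : Fact p.Prime]
variable {G : Type u} [Group G] [Finite G]

omit [Finite G] in
lemma isPEl_of_orderOf {g : G} (h : ∃ k : ℕ, orderOf g = p ^ k) : IsPEl p g := by
  obtain ⟨k, hk⟩ := h
  exact ⟨k, by rw [← hk, pow_orderOf_eq_one]⟩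

omit [Finite G] in
lemma gen_of_orderOf (hgen : Subgroup.closure {g : G | ∃ k : ℕ, orderOf g = p ^ k} = ⊤) :
    Subgroup.closure {g : G | IsPEl p g} = ⊤ := by
  rw [eq_top_iff, ← hgen]
  exact Subgroup.closure_mono fun _ hg => isPEl_of_orderOf p hg

omit [Finite G] in
lemma fixes_smul {X : Type v} [MulAction G X] (g : G) (R : Sylow p G) (ω : X) :
    (∀ r ∈ ((g • R : Sylow p G) : Subgroup G), r • (g • ω) = g • ω) ↔
      ∀ r ∈ (R : Subgroup G), r • ω = ω := by
  rw [coe_smul_eq_cj]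
  constructor
  · intro h r hr
    have hr' : g * r * g⁻¹ ∈ cj g (R : Subgroup G) := by
      rw [mem_cj]
      have e : g⁻¹ * (g * r * g⁻¹) * g = r := by group
      rwa [e]
    have := h _ hr'
    rw [mul_smul, mul_smul, inv_smul_smul] at this
    exact smul_left_cancel g this
  · intro h r hr
    rw [mem_cj] at hr
    have := h _ hr
    rw [mul_smul, mul_smul, inv_smul_eq_iff] at this
    exact this

/-- Number of Sylow subgroups of a subgroup in terms of fixed points on its cosets. -/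
theorem sylow_count (H : Subgroup G) [Fintype (G ⧸ H)] (P : Sylow p G)
    (hP : (P : Subgroup G) ≤ H) :
    Nat.card (Sylow p G) * (Finset.univ.filter
        (fun ω : G ⧸ H => ∀ r ∈ (P : Subgroup G), r • ω = ω)).card
      = Nat.card (G ⧸ H) * Nat.card (Sylow p ↥H) := by
  haveI : Fintype (Sylow p G) := Fintype.ofFinite _
  let fixes : Sylow p G → G ⧸ H → Prop := fun R ω => ∀ r ∈ (R : Subgroup G), r • ω = ω
  -- fixed points of `R`
  have h1 : ∀ R : Sylow p G, (Finset.univ.filter (fun ω => fixes R ω)).card =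
      (Finset.univ.filter (fun ω => fixes P ω)).card := by
    intro R
    obtain ⟨g, rfl⟩ := MulAction.exists_smul_eq G P R
    refine Finset.card_nbij' (fun ω => g⁻¹ • ω) (fun ω => g • ω) ?_ ?_ ?_ ?_
    · intro ω hω
      have hω' := (Finset.mem_filter.1 (Finset.mem_coe.1 hω)).2
      refine Finset.mem_coe.2 (Finset.mem_filter.2 ⟨Finset.mem_univ _, ?_⟩)
      have h2 := (fixes_smul p g P (g⁻¹ • ω)).1
      rw [smul_inv_smul] at h2
      exact h2 hω'
    · intro ω hω
      have hω' := (Finset.mem_filter.1 (Finset.mem_coe.1 hω)).2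
      refine Finset.mem_coe.2 (Finset.mem_filter.2 ⟨Finset.mem_univ _, ?_⟩)
      exact (fixes_smul p g P ω).2 hω'
    · intro ω _; exact smul_inv_smul g ω
    · intro ω _; exact inv_smul_smul g ω
  -- Sylow subgroups fixing the base point
  let ω₀ : G ⧸ H := ((1 : G) : G ⧸ H)
  have hfix0 : ∀ R : Sylow p G, fixes R ω₀ ↔ (R : Subgroup G) ≤ H := by
    intro R
    constructor
    · intro h r hr
      have h2 := h r hr
      have h3 : ((r : G) : G ⧸ H) = ((1 : G) : G ⧸ H) := by
        have : r • ω₀ = ((r * 1 : G) : G ⧸ H) := rfl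
        rw [this, mul_one] at h2
        exact h2
      rw [QuotientGroup.eq] at h3
      simpa using H.inv_mem h3
    · intro h r hr
      have h3 : ((r : G) : G ⧸ H) = ((1 : G) : G ⧸ H) := by
        rw [QuotientGroup.eq]
        simpa using H.inv_mem (h hr)
      have : r • ω₀ = ((r * 1 : G) : G ⧸ H) := rfl
      rw [this, mul_one]
      exact h3
  have h2 : ∀ ω : G ⧸ H, (Finset.univ.filter (fun R => fixes R ω)).card =
      (Finset.univ.filter (fun R => fixes R ω₀)).card := by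
    intro ω
    obtain ⟨a, rfl⟩ := QuotientGroup.mk_surjective ω
    have hω : ((a : G) : G ⧸ H) = a • ω₀ := by
      show _ = ((a * 1 : G) : G ⧸ H)
      rw [mul_one]
    rw [hω]
    refine Finset.card_nbij' (fun R => a⁻¹ • R) (fun R => a • R) ?_ ?_ ?_ ?_
    · intro R hR
      have hR' := (Finset.mem_filter.1 (Finset.mem_coe.1 hR)).2
      refine Finset.mem_coe.2 (Finset.mem_filter.2 ⟨Finset.mem_univ _, ?_⟩)
      have h3 := (fixes_smul p a (a⁻¹ • R) ω₀).1
      rw [smul_inv_smul] at h3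
      exact h3 hR'
    · intro R hR
      have hR' := (Finset.mem_filter.1 (Finset.mem_coe.1 hR)).2
      refine Finset.mem_coe.2 (Finset.mem_filter.2 ⟨Finset.mem_univ _, ?_⟩)
      exact (fixes_smul p a R ω₀).2 hR'
    · intro R _; exact smul_inv_smul a R
    · intro R _; exact inv_smul_smul a R
  have h3 : (Finset.univ.filter (fun R => fixes R ω₀)).card = Nat.card (Sylow p ↥H) := by
    have h4 : (Finset.univ.filter (fun R => fixes R ω₀)).card =
        Nat.card {R : Sylow p G // (R : Subgroup G) ≤ H} := by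
      rw [Nat.card_eq_fintype_card, Fintype.card_subtype]
      simp only [hfix0]
    rw [h4]
    refine Nat.card_congr (Equiv.ofBijective (fun R => R.1.subtype R.2) ⟨?_, ?_⟩)
    · intro R R' h
      apply Subtype.ext
      have h5 := congrArg (fun Q : Sylow p ↥H => (Q : Subgroup ↥H)) h
      simp only [Sylow.coe_subtype] at h5
      exact Sylow.ext ((Subgroup.subgroupOf_inj.1 h5) |> fun h6 => by
        rwa [inf_eq_left.2 R.2, inf_eq_left.2 R'.2] at h6)
    · intro Q
      obtain ⟨k, rfl⟩ := MulAction.exists_smul_eq ↥H (P.subtype hP) Q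
      have hle : ((((k : G) • P : Sylow p G)) : Subgroup G) ≤ H := by
        rw [coe_smul_eq_cj]
        have := cj_le_cj (g := (k : G)).2 hP
        rwa [cj_of_mem k.2] at this
      refine ⟨⟨(k : G) • P, hle⟩, ?_⟩
      apply Sylow.ext
      show ((((k : G) • P : Sylow p G).subtype hle : Sylow p ↥H) : Subgroup ↥H) =
        ((k • P.subtype hP : Sylow p ↥H) : Subgroup ↥H)
      ext y
      rw [Sylow.coe_subtype, Subgroup.mem_subgroupOf, coe_smul_eq_cj, coe_smul_eq_cj, mem_cj, mem_cj,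
        Sylow.coe_subtype, Subgroup.mem_subgroupOf]
      rfl
  have hdc := Finset.sum_card_bipartiteAbove_eq_sum_card_bipartiteBelow
    (s := (Finset.univ : Finset (Sylow p G))) (t := (Finset.univ : Finset (G ⧸ H))) fixes
  simp only [Finset.bipartiteAbove, Finset.bipartiteBelow] at hdc
  rw [Finset.sum_congr rfl (fun R _ => h1 R), Finset.sum_congr rfl (fun ω _ => h2 ω), h3,
    Finset.sum_const, Finset.sum_const, smul_eq_mul, smul_eq_mul, Finset.card_univ, Finset.card_univ,
    ← Nat.card_eq_fintype_card, ← Nat.card_eq_fintype_card] at hdc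
  exact hdc

/-- **Numbers of Sylow subgroups.** -/
theorem sylow_num_bound (hgen : Subgroup.closure {g : G | ∃ k : ℕ, orderOf g = p ^ k} = ⊤)
    (H : Subgroup G) (hH : H ≠ ⊤) (P : Sylow p G) (hP : (P : Subgroup G) ≤ H) :
    (2 * p - 1) * Nat.card (Sylow p ↥H) ≤ (p - 1) * Nat.card (Sylow p G) := by
  haveI : Fintype (G ⧸ H) := Fintype.ofFinite _
  have hnf : ∀ ω : G ⧸ H, ∃ g : G, g • ω ≠ ω := by
    intro ω
    obtain ⟨a, rfl⟩ := QuotientGroup.mk_surjective ω
    by_contra hcon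
    push Not at hcon
    apply hH
    rw [eq_top_iff]
    intro x _
    have h1 := hcon (a * x * a⁻¹)
    have h2 : (a * x * a⁻¹) • ((a : G) : G ⧸ H) = ((a * x * a⁻¹ * a : G) : G ⧸ H) := rfl
    rw [h2, QuotientGroup.eq] at h1
    have e : (a * x * a⁻¹ * a)⁻¹ * a = x⁻¹ := by group
    rw [e] at h1
    simpa using H.inv_mem h1
  have h := sylow_fix_bound p (gen_of_orderOf p hgen) hnf P
  have hcount := sylow_count p H P hP
  set f := (Finset.univ.filter (fun ω : G ⧸ H => ∀ r ∈ (P : Subgroup G), r • ω = ω)).card with hf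
  set m := (Finset.univ.filter (fun ω : G ⧸ H => ¬ ∀ r ∈ (P : Subgroup G), r • ω = ω)).card with hm
  have hsum : ∑ ω : G ⧸ H, wt p (P : Subgroup G) ω = -(p : ℤ) * (f : ℤ) + ((p : ℤ) - 1) * (m : ℤ) := by
    simp only [wt]
    rw [Finset.sum_ite]
    simp only [Finset.sum_const, nsmul_eq_mul]
    ring
  rw [hsum] at h
  have hn : Nat.card (G ⧸ H) = f + m := by
    rw [Nat.card_eq_fintype_card, ← Finset.card_univ]
    exact (Finset.card_filter_add_card_filter_not _).symm
  have hnpos : 0 < Nat.card (G ⧸ H) := Nat.card_pos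
  have hp1 : 1 ≤ p := hp.out.one_lt.le
  have hc1 : ((2 * p - 1 : ℕ) : ℤ) = 2 * (p : ℤ) - 1 := by
    rw [Nat.cast_sub (by omega)]
    push_cast
    ring
  have hc2 : ((p - 1 : ℕ) : ℤ) = (p : ℤ) - 1 := by
    rw [Nat.cast_sub hp1]
    simp
  have hfb : (2 * (p : ℤ) - 1) * (f : ℤ) ≤ ((p : ℤ) - 1) * (Nat.card (G ⧸ H) : ℤ) := by
    rw [hn]
    push_cast
    linarith
  have hcountZ : (Nat.card (Sylow p G) : ℤ) * (f : ℤ) =
      (Nat.card (G ⧸ H) : ℤ) * (Nat.card (Sylow p ↥H) : ℤ) := by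
    exact_mod_cast hcount
  have hsG : (0 : ℤ) ≤ (Nat.card (Sylow p G) : ℤ) := by positivity
  have hnZ : (0 : ℤ) < (Nat.card (G ⧸ H) : ℤ) := by exact_mod_cast hnpos
  have hgoal : (2 * (p : ℤ) - 1) * (Nat.card (Sylow p ↥H) : ℤ) ≤
      ((p : ℤ) - 1) * (Nat.card (Sylow p G) : ℤ) := by
    refine le_of_mul_le_mul_left ?_ hnZ
    have h5 := mul_le_mul_of_nonneg_left hfb hsG
    calc (Nat.card (G ⧸ H) : ℤ) * ((2 * (p : ℤ) - 1) * (Nat.card (Sylow p ↥H) : ℤ))
        = (2 * (p : ℤ) - 1) * ((Nat.card (G ⧸ H) : ℤ) * (Nat.card (Sylow p ↥H) : ℤ)) := by ring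
      _ = (Nat.card (Sylow p G) : ℤ) * ((2 * (p : ℤ) - 1) * (f : ℤ)) := by rw [← hcountZ]; ring
      _ ≤ (Nat.card (Sylow p G) : ℤ) * (((p : ℤ) - 1) * (Nat.card (G ⧸ H) : ℤ)) := h5
      _ = (Nat.card (G ⧸ H) : ℤ) * (((p : ℤ) - 1) * (Nat.card (Sylow p G) : ℤ)) := by ring
  have hfinal : ((2 * p - 1 : ℕ) : ℤ) * (Nat.card (Sylow p ↥H) : ℤ) ≤
      ((p - 1 : ℕ) : ℤ) * (Nat.card (Sylow p G) : ℤ) := by
    rw [hc1, hc2]
    exact hgoal
  exact_mod_cast hfinal

end

end Cfsg.Agent.SylFix
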