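import Cfsg.Agent.Lib.SylFix.Basic

/-!
# Fixed points of Sylow subgroups: the main theorem
-/

set_option autoImplicit false

namespace Cfsg.Agent.SylFix

open scoped BigOperators
open Classical

universe u v

section Main

variable (p : ℕ) [hp : Fact p.Prime]
variable {G : Type u} [Group G] [Finite G]

/-- The conjugacy class of a subgroup. -/
noncomputable def cls (K₀ : Subgroup G) : Finset (Subgroup G) :=
  (Set.finite_range (fun g : G => cj g K₀)).toFinset

lemma mem_cls {K₀ K : Subgroup G} : K ∈ cls K₀ ↔ ∃ g, cj g K₀ = K := by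
  simp [cls]

lemma cls_st {K₀ K : Subgroup G} (h : K ∈ cls K₀) (g : G) : cj g K ∈ cls K₀ := by
  obtain ⟨h', rfl⟩ := mem_cls.1 h
  exact mem_cls.2 ⟨g * h', cj_mul _ _ _⟩

lemma stepA (IH : Hyp.{u} p (Nat.card G)) (hgen : Subgroup.closure {g : G | IsPEl p g} = ⊤)
    {K₀ : Subgroup G} (hK₀ : Good p K₀) (P : Sylow p G) :
    0 ≤ ∑ K ∈ cls K₀, w p (P : Subgroup G) K := by
  have hgood : ∀ K ∈ cls K₀, Good p K := by
    intro K hK
    obtain ⟨g, rfl⟩ := mem_cls.1 hK
    exact good_cj p hK₀ g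
  have hfix : ∀ {x : G} {K' : Subgroup G}, K' ∈ cls K₀ → IsPEl p x → cj x K' = K' → x ∈ K' := by
    intro x K' hK' hx hc
    obtain ⟨_, ⟨R', hR'⟩, _⟩ := hgood K' hK'
    exact mem_of_normalizes p R' hR' hx (mem_normalizer_of_cj hc)
  have hself : K₀ ∈ cls K₀ := mem_cls.2 ⟨1, cj_one _⟩
  obtain ⟨x, hx, hxn⟩ : ∃ x, IsPEl p x ∧ cj x K₀ ≠ K₀ := by
    by_contra hcon
    push Not at hcon
    apply hK₀.2.2
    rw [eq_top_iff, ← hgen, Subgroup.closure_le]
    intro x hx
    exact hfix hself hx (hcon x hx)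
  letI act : MulAction G (Subgroup G) :=
    { smul := cj
      one_smul := cj_one
      mul_smul := cj_mul }
  obtain ⟨Y, ha, hcard, hY, hnon⟩ := exists_nonfix p hx (a := K₀) hxn
  have hYsub : Y ⊆ cls K₀ := by
    intro y hy
    obtain ⟨g, rfl⟩ := hY y hy
    exact mem_cls.2 ⟨g, rfl⟩
  have h := stepM p IH (cls K₀) Y hgood (fun K hK g => cls_st hK g) hYsub
    (fun K hK => by
      obtain ⟨g, rfl⟩ := mem_cls.1 hK
      exact ⟨K₀, ha, g, rfl⟩)
    (fun R => by
      obtain ⟨y, hy, r, hr, hne⟩ := hnon R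
      refine ⟨y, hy, fun hle => hne ?_⟩
      exact cj_of_mem (hle hr)) P
  have h1 : (0 : ℤ) ≤ (p : ℤ) - Y.card := by
    have : (Y.card : ℤ) ≤ p := by exact_mod_cast hcard
    linarith
  have h2 : (0 : ℤ) ≤ (p : ℤ) := by positivity
  exact le_trans (mul_nonneg h2 h1) h

lemma stepE (R : Subgroup G)
    (hA : ∀ K₀ : Subgroup G, Good p K₀ → 0 ≤ ∑ K ∈ cls K₀, w p R K) :
    ∀ (F : Finset (Subgroup G)), (∀ K ∈ F, Good p K) → (∀ K ∈ F, ∀ g, cj g K ∈ F) →
      ∀ a : Subgroup G → ℕ, (∀ g K, a (cj g K) = a K) →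
      0 ≤ ∑ K ∈ F, (a K : ℤ) * w p R K := by
  intro F
  induction F using Finset.strongInduction with
  | H F ih =>
    intro hF hst a ha
    by_cases hne : F.Nonempty
    · obtain ⟨K₀, hK₀⟩ := hne
      have hsub : cls K₀ ⊆ F := by
        intro K hK
        obtain ⟨g, rfl⟩ := mem_cls.1 hK
        exact hst _ hK₀ g
      rw [← Finset.sum_sdiff hsub]
      apply add_nonneg
      · apply ih (F \ cls K₀) (Finset.sdiff_ssubset hsub ⟨K₀, mem_cls.2 ⟨1, cj_one _⟩⟩)
        · intro K hK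
          exact hF K (Finset.mem_sdiff.1 hK).1
        · intro K hK g
          obtain ⟨h1, h2⟩ := Finset.mem_sdiff.1 hK
          refine Finset.mem_sdiff.2 ⟨hst K h1 g, fun h3 => h2 ?_⟩
          have := cls_st h3 g⁻¹
          rwa [cj_inv_cj] at this
        · exact ha
      · have h1 : ∑ K ∈ cls K₀, (a K : ℤ) * w p R K = (a K₀ : ℤ) * ∑ K ∈ cls K₀, w p R K := by
          rw [Finset.mul_sum]
          apply Finset.sum_congr rfl
          intro K hK
          obtain ⟨g, rfl⟩ := mem_cls.1 hK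
          rw [ha]
        rw [h1]
        exact mul_nonneg (by positivity) (hA K₀ (hF K₀ hK₀))
    · simp [Finset.not_nonempty_iff_eq_empty.1 hne]

section StepC

variable {X : Type v} [MulAction G X] [Fintype X]

/-- The subgroup generated by the `p`-elements of a point stabilizer. -/
noncomputable def Psi (ω : X) : Subgroup G := O p (MulAction.stabilizer G ω)

lemma Psi_smul (g : G) (ω : X) : Psi p (g • ω) = cj g (Psi p ω) := by
  unfold Psi
  rw [← O_cj]
  congr 1
  ext x
  rw [mem_cj, MulAction.mem_stabilizer_iff, MulAction.mem_stabilizer_iff, mul_smul, mul_smul,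
    inv_smul_eq_iff]

lemma le_Psi_iff (R : Sylow p G) (ω : X) :
    (∀ r ∈ (R : Subgroup G), r • ω = ω) ↔ (R : Subgroup G) ≤ Psi p ω := by
  constructor
  · intro h r hr
    exact mem_O p (MulAction.mem_stabilizer_iff.2 (h r hr)) (isPEl_of_mem p R hr)
  · intro h r hr
    exact MulAction.mem_stabilizer_iff.1 (O_le p _ (h hr))

lemma wt_eq (R : Sylow p G) (ω : X) :
    wt p (R : Subgroup G) ω = w p (R : Subgroup G) (Psi p ω) := by
  simp only [wt, w, le_Psi_iff p R ω]

/-- Points fixed by some Sylow subgroup. -/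
def Fx (ω : X) : Prop := ∃ R : Sylow p G, ∀ r ∈ (R : Subgroup G), r • ω = ω

lemma Fx_smul {ω : X} (h : Fx p (G := G) ω) (g : G) : Fx p (G := G) (g • ω) := by
  obtain ⟨R, hR⟩ := h
  refine ⟨g • R, fun r hr => ?_⟩
  rw [coe_smul_eq_cj, mem_cj] at hr
  have := hR _ hr
  rw [mul_smul, mul_smul, inv_smul_eq_iff] at this
  exact this

theorem stepC (IH : Hyp.{u} p (Nat.card G)) (hgen : Subgroup.closure {g : G | IsPEl p g} = ⊤)
    (hnf : ∀ ω : X, ∃ g : G, g • ω ≠ ω) (Y : Finset X)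
    (hY : ∀ R : Sylow p G, ∃ y ∈ Y, ∃ r ∈ (R : Subgroup G), r • y ≠ y) (P : Sylow p G) :
    (p : ℤ) * ((p : ℤ) - Y.card) ≤ ∑ ω : X, wt p (P : Subgroup G) ω := by
  have hp0 : (0 : ℤ) < p := by exact_mod_cast hp.out.pos
  have hp1 : (1 : ℤ) ≤ (p : ℤ) - 1 := by
    have : 2 ≤ p := hp.out.two_le
    have : (2 : ℤ) ≤ p := by exact_mod_cast this
    linarith
  let Wf : Finset X := Finset.univ.filter (fun ω => Fx p (G := G) ω)
  let Wn : Finset X := Finset.univ.filter (fun ω => ¬ Fx p (G := G) ω)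
  have hsplit : ∑ ω : X, wt p (P : Subgroup G) ω =
      ∑ ω ∈ Wf, w p (P : Subgroup G) (Psi (G := G) p ω) + ∑ ω ∈ Wn, ((p : ℤ) - 1) := by
    rw [← Finset.sum_filter_add_sum_filter_not Finset.univ (fun ω => Fx p (G := G) ω)]
    congr 1
    · exact Finset.sum_congr rfl fun ω _ => wt_eq p P ω
    · apply Finset.sum_congr rfl
      intro ω hω
      have h1 : ¬ Fx p (G := G) ω := (Finset.mem_filter.1 hω).2
      have h2 : ¬ ∀ r ∈ (P : Subgroup G), r • ω = ω := fun h3 => h1 ⟨P, h3⟩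
      simp only [wt, if_neg h2]
  let F : Finset (Subgroup G) := Wf.image (Psi (G := G) (X := X) p)
  let c : Subgroup G → ℕ := fun K => (Wf.filter (fun ω => Psi (G := G) p ω = K)).card
  have hsum2 : ∑ ω ∈ Wf, w p (P : Subgroup G) (Psi (G := G) p ω) =
      ∑ K ∈ F, (c K : ℤ) * w p (P : Subgroup G) K := by
    rw [Finset.sum_comp (fun K => w p (P : Subgroup G) K) (Psi (G := G) (X := X) p)]
    apply Finset.sum_congr rfl
    intro K _
    rw [nsmul_eq_mul]
  have hgoodPsi : ∀ ω : X, Fx p (G := G) ω → Good p (Psi (G := G) p ω) := by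
    intro ω hω
    obtain ⟨R, hR⟩ := hω
    refine ⟨O_O p _, ⟨R, (le_Psi_iff p R ω).1 hR⟩, ?_⟩
    intro htop
    obtain ⟨g, hg⟩ := hnf ω
    have h1 : g ∈ Psi (G := G) p ω := by rw [htop]; exact Subgroup.mem_top _
    exact hg (MulAction.mem_stabilizer_iff.1 (O_le p _ h1))
  have hFgood : ∀ K ∈ F, Good p K := by
    intro K hK
    obtain ⟨ω, hω, rfl⟩ := Finset.mem_image.1 hK
    exact hgoodPsi ω (Finset.mem_filter.1 hω).2
  have hFst : ∀ K ∈ F, ∀ g, cj g K ∈ F := by
    intro K hK g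
    obtain ⟨ω, hω, rfl⟩ := Finset.mem_image.1 hK
    refine Finset.mem_image.2 ⟨g • ω, ?_, Psi_smul p g ω⟩
    exact Finset.mem_filter.2 ⟨Finset.mem_univ _, Fx_smul p (Finset.mem_filter.1 hω).2 g⟩
  have hc : ∀ g K, c (cj g K) = c K := by
    intro g K
    refine Finset.card_nbij' (fun ω => g⁻¹ • ω) (fun ω => g • ω) ?_ ?_ ?_ ?_
    · intro ω hω
      have hω' := Finset.mem_filter.1 (Finset.mem_coe.1 hω)
      refine Finset.mem_coe.2 (Finset.mem_filter.2 ⟨?_, ?_⟩)
      · exact Finset.mem_filter.2 ⟨Finset.mem_univ _, Fx_smul p (Finset.mem_filter.1 hω'.1).2 _⟩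
      · rw [Psi_smul, hω'.2, cj_inv_cj]
    · intro ω hω
      have hω' := Finset.mem_filter.1 (Finset.mem_coe.1 hω)
      refine Finset.mem_coe.2 (Finset.mem_filter.2 ⟨?_, ?_⟩)
      · exact Finset.mem_filter.2 ⟨Finset.mem_univ _, Fx_smul p (Finset.mem_filter.1 hω'.1).2 _⟩
      · rw [Psi_smul, hω'.2]
    · intro ω _; exact smul_inv_smul g ω
    · intro ω _; exact inv_smul_smul g ω
  have hstepE := stepE p (P : Subgroup G) (fun K₀ hK₀ => stepA p IH hgen hK₀ P)
  rw [hsplit, hsum2, Finset.sum_const, nsmul_eq_mul]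
  by_cases hAll : ∀ y ∈ Y, Fx p (G := G) y
  · -- all points of `Y` are fixable
    let Y₁ : Finset (Subgroup G) := Y.image (Psi (G := G) (X := X) p)
    let F₀ : Finset (Subgroup G) := Y₁.biUnion cls
    have hF₀ : ∀ K, K ∈ F₀ ↔ ∃ y ∈ Y, ∃ g, cj g (Psi (G := G) p y) = K := by
      intro K
      simp only [F₀, Y₁, Finset.mem_biUnion, Finset.mem_image, mem_cls]
      constructor
      · rintro ⟨_, ⟨y, hy, rfl⟩, g, hg⟩
        exact ⟨y, hy, g, hg⟩
      · rintro ⟨y, hy, g, hg⟩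
        exact ⟨_, ⟨y, hy, rfl⟩, g, hg⟩
    have hF₀sub : F₀ ⊆ F := by
      intro K hK
      obtain ⟨y, hy, g, rfl⟩ := (hF₀ K).1 hK
      exact hFst _ (Finset.mem_image.2 ⟨y, Finset.mem_filter.2 ⟨Finset.mem_univ _, hAll y hy⟩, rfl⟩) g
    have hF₀st : ∀ K ∈ F₀, ∀ g, cj g K ∈ F₀ := by
      intro K hK g
      obtain ⟨y, hy, g', rfl⟩ := (hF₀ K).1 hK
      exact (hF₀ _).2 ⟨y, hy, g * g', (cj_mul _ _ _)⟩
    let a : Subgroup G → ℕ := fun K => c K - (if K ∈ F₀ then 1 else 0)
    have ha : ∀ g K, a (cj g K) = a K := by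
      intro g K
      have h1 : cj g K ∈ F₀ ↔ K ∈ F₀ := by
        constructor
        · intro h
          have := hF₀st _ h g⁻¹
          rwa [cj_inv_cj] at this
        · intro h
          exact hF₀st _ h g
      simp only [a, hc, h1]
    have hcpos : ∀ K ∈ F, 1 ≤ c K := by
      intro K hK
      obtain ⟨ω, hω, rfl⟩ := Finset.mem_image.1 hK
      exact Finset.card_pos.2 ⟨ω, Finset.mem_filter.2 ⟨hω, rfl⟩⟩
    have hdecomp : ∑ K ∈ F, (c K : ℤ) * w p (P : Subgroup G) K =
        ∑ K ∈ F, (a K : ℤ) * w p (P : Subgroup G) K + ∑ K ∈ F₀, w p (P : Subgroup G) K := by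
      have h1 : ∑ K ∈ F₀, w p (P : Subgroup G) K =
          ∑ K ∈ F, (if K ∈ F₀ then w p (P : Subgroup G) K else 0) := by
        rw [Finset.sum_ite_mem, Finset.inter_eq_right.2 hF₀sub]
      rw [h1, ← Finset.sum_add_distrib]
      apply Finset.sum_congr rfl
      intro K hK
      by_cases hK0 : K ∈ F₀
      · have h2 := hcpos K hK
        have h3 : (a K : ℤ) = (c K : ℤ) - 1 := by
          simp only [a, if_pos hK0]
          omega
        rw [h3, if_pos hK0]
        ring
      · have h3 : a K = c K := by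
          simp only [a, if_neg hK0]
          omega
        rw [h3, if_neg hK0]
        ring
    have h1 := hstepE F hFgood hFst a ha
    have h2 := stepM p IH F₀ Y₁ (fun K hK => hFgood K (hF₀sub hK)) hF₀st
      (by
        intro K hK
        obtain ⟨y, hy, rfl⟩ := Finset.mem_image.1 hK
        exact (hF₀ _).2 ⟨y, hy, 1, cj_one _⟩)
      (by
        intro K hK
        obtain ⟨y, hy, g, rfl⟩ := (hF₀ K).1 hK
        exact ⟨_, Finset.mem_image.2 ⟨y, hy, rfl⟩, g, rfl⟩)
      (by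
        intro R
        obtain ⟨y, hy, r, hr, hne⟩ := hY R
        refine ⟨_, Finset.mem_image.2 ⟨y, hy, rfl⟩, fun hle => hne ?_⟩
        exact (le_Psi_iff p R y).2 hle r hr) P
    have h3 : (Y₁.card : ℤ) ≤ Y.card := by
      exact_mod_cast Finset.card_image_le
    have h4 : (0 : ℤ) ≤ (Wn.card : ℤ) * ((p : ℤ) - 1) := by positivity
    rw [hdecomp]
    nlinarith
  · -- some point of `Y` is not fixable
    push Not at hAll
    obtain ⟨y, hy, hyn⟩ := hAll
    have h1 := hstepE F hFgood hFst c hc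
    have hYpos : (1 : ℤ) ≤ Y.card := by
      have := Finset.card_pos.2 ⟨y, hy⟩
      exact_mod_cast this
    have hWn : (p : ℤ) ≤ Wn.card := by
      have hP : IsPGroup p (P : Subgroup G) := P.isPGroup'
      obtain ⟨n, hn⟩ := hP.card_orbit y
      have hn0 : n ≠ 0 := by
        rintro rfl
        apply hyn
        refine ⟨P, fun r hr => ?_⟩
        have h3 : Nat.card (MulAction.orbit (P : Subgroup G) y) = 1 := by simpa using hn
        have h4 : Subsingleton (MulAction.orbit (P : Subgroup G) y) :=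
          (Nat.card_eq_one_iff_unique.1 h3).1
        have h5 := h4.elim ⟨(⟨r, hr⟩ : (P : Subgroup G)) • y, MulAction.mem_orbit _ _⟩
          ⟨y, MulAction.mem_orbit_self _⟩
        exact congrArg Subtype.val h5
      have hle : Nat.card (MulAction.orbit (P : Subgroup G) y) ≤ Wn.card := by
        rw [Nat.card_coe_set_eq, ← Set.ncard_coe_finset]
        apply Set.ncard_le_ncard _ (Finset.finite_toSet _)
        rintro z ⟨r, rfl⟩
        refine Finset.mem_coe.2 (Finset.mem_filter.2 ⟨Finset.mem_univ _, fun hz => hyn ?_⟩)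
        have h5 := Fx_smul p hz ((r : G)⁻¹)
        have h6 : (r : G)⁻¹ • ((fun m : (P : Subgroup G) => m • y) r) = y := by
          show (r : G)⁻¹ • ((r : G) • y) = y
          exact inv_smul_smul _ _
        rwa [h6] at h5
      have h7 : p ≤ p ^ n := Nat.le_self_pow hn0 p
      rw [hn] at hle
      exact_mod_cast h7.trans hle
    have h8 : (p : ℤ) * ((p : ℤ) - Y.card) ≤ (p : ℤ) * ((p : ℤ) - 1) :=
      mul_le_mul_of_nonneg_left (by linarith) hp0.le
    have h9 : (p : ℤ) * ((p : ℤ) - 1) ≤ (Wn.card : ℤ) * ((p : ℤ) - 1) :=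
      mul_le_mul_of_nonneg_right hWn (by linarith)
    linarith

end StepC

/-- The inductive statement holds for all groups. -/
theorem mainL (p : ℕ) [Fact p.Prime] : ∀ n, Hyp.{u} p n := by
  intro n
  induction n with
  | zero =>
    intro H _ _ hlt
    omega
  | succ n ih =>
    intro H _ _ hlt hgen X _ _ hnf Y hY P
    have IH : Hyp.{u} p (Nat.card H) := by
      intro H' _ _ hlt'
      exact ih H' (by omega)
    exact stepC p IH hgen hnf Y hY P

/-- **Fixed points of Sylow subgroups.** -/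
theorem sylow_fix_bound (hgen : Subgroup.closure {g : G | IsPEl p g} = ⊤)
    {X : Type v} [MulAction G X] [Fintype X] (hnf : ∀ ω : X, ∃ g : G, g • ω ≠ ω) (P : Sylow p G) :
    0 ≤ ∑ ω : X, wt p (P : Subgroup G) ω := by
  by_cases hne : Nonempty X
  · obtain ⟨ω₀⟩ := hne
    obtain ⟨x, hx, hxn⟩ : ∃ x : G, IsPEl p x ∧ x • ω₀ ≠ ω₀ := by
      by_contra hcon
      push Not at hcon
      obtain ⟨g, hg⟩ := hnf ω₀
      have h1 : g ∈ Subgroup.closure {g : G | IsPEl p g} := by rw [hgen]; exact Subgroup.mem_top _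
      have h2 : Subgroup.closure {g : G | IsPEl p g} ≤ MulAction.stabilizer G ω₀ := by
        rw [Subgroup.closure_le]
        intro y hy
        exact MulAction.mem_stabilizer_iff.2 (hcon y hy)
      exact hg (MulAction.mem_stabilizer_iff.1 (h2 h1))
    obtain ⟨Y, _, hcard, _, hnon⟩ := exists_nonfix p hx hxn
    have h := stepC p (mainL.{u} p _) hgen hnf Y hnon P
    have h1 : (0 : ℤ) ≤ (p : ℤ) - Y.card := by
      have : (Y.card : ℤ) ≤ p := by exact_mod_cast hcard
      linarith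
    have h2 : (0 : ℤ) ≤ (p : ℤ) := by positivity
    exact le_trans (mul_nonneg h2 h1) h
  · have : IsEmpty X := not_nonempty_iff.1 hne
    simp

end Main

end Cfsg.Agent.SylFix
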