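import Cfsg.Agent.Lib.SylFix.Main

/-!
# Orbits of Sylow subgroups in transitive groups
-/

set_option autoImplicit false

namespace Cfsg.Agent.SylFix

open scoped BigOperators
open Classical

universe u v

section

variable (p : ℕ) [hp : Fact p.Prime]
variable {G : Type u} [Group G] [Finite G]

/-- The subgroup generated by all `p`-elements. -/
def Np (G : Type u) [Group G] : Subgroup G := Subgroup.closure {g : G | IsPEl p g}

omit [Finite G] in
lemma Np_conj (g n : G) (hn : n ∈ Np p G) : g * n * g⁻¹ ∈ Np p G := by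
  unfold Np at hn ⊢
  induction hn using Subgroup.closure_induction with
  | mem x hx =>
    apply Subgroup.subset_closure
    have := isPEl_conj p g⁻¹ hx
    simpa using this
  | one => simp [Subgroup.one_mem]
  | mul a b _ _ ha hb =>
    have e : g * (a * b) * g⁻¹ = (g * a * g⁻¹) * (g * b * g⁻¹) := by group
    rw [e]
    exact Subgroup.mul_mem _ ha hb
  | inv a _ ha =>
    have e : g * a⁻¹ * g⁻¹ = (g * a * g⁻¹)⁻¹ := by group
    rw [e]
    exact Subgroup.inv_mem _ ha

omit [Finite G] in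
lemma Np_gen : Subgroup.closure {g : Np p G | IsPEl p g} = ⊤ := by
  have h := Subgroup.closure_closure_coe_preimage (G := G) (k := {g : G | IsPEl p g})
  unfold Np
  rw [eq_top_iff]
  refine h.symm.le.trans ?_
  apply Subgroup.closure_mono
  intro x hx
  obtain ⟨k, hk⟩ := hx
  exact ⟨k, Subtype.ext (by simpa using hk)⟩

lemma Sylow_le_Np (P : Sylow p G) : (P : Subgroup G) ≤ Np p G :=
  fun _ hr => Subgroup.subset_closure (isPEl_of_mem p P hr)

lemma p_le_card_orbit {P : Subgroup G} (hP : IsPGroup p P) {X : Type v} [MulAction G X] [Finite X]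
    (y : X) (h : ¬ ∀ r ∈ P, r • y = y) : p ≤ Nat.card (MulAction.orbit P y) := by
  obtain ⟨n, hn⟩ := hP.card_orbit y
  have hn0 : n ≠ 0 := by
    rintro rfl
    apply h
    intro r hr
    have h3 : Nat.card (MulAction.orbit P y) = 1 := by simpa using hn
    have h4 : Subsingleton (MulAction.orbit P y) := (Nat.card_eq_one_iff_unique.1 h3).1
    have h5 := h4.elim ⟨(⟨r, hr⟩ : P) • y, MulAction.mem_orbit _ _⟩
      ⟨y, MulAction.mem_orbit_self _⟩
    exact congrArg Subtype.val h5
  rw [hn]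
  exact Nat.le_self_pow hn0 p

variable {Ω : Type v} [MulAction G Ω]

/-- Sylow subgroups fix few points, in the form `p f ≤ (p - 1) u`. -/
theorem fix_le_moved [Fintype Ω] [FaithfulSMul G Ω] (htrans : MulAction.IsPretransitive G Ω)
    (hpG : p ∣ Nat.card G) (P : Sylow p G) :
    (p : ℤ) * ((Finset.univ.filter fun ω : Ω => ∀ r ∈ (P : Subgroup G), r • ω = ω).card : ℤ) ≤
      ((p : ℤ) - 1) * ((Finset.univ.filter fun ω : Ω => ¬ ∀ r ∈ (P : Subgroup G), r • ω = ω).card : ℤ) := by
  have hP := Sylow_le_Np p P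
  have hnf : ∀ ω : Ω, ∃ n : Np p G, n • ω ≠ ω := by
    intro ω
    by_contra hcon
    push Not at hcon
    obtain ⟨x, hx⟩ := exists_prime_orderOf_dvd_card' p hpG
    have hxN : x ∈ Np p G := Subgroup.subset_closure ⟨1, by rw [pow_one, ← hx, pow_orderOf_eq_one]⟩
    have hall : ∀ ω' : Ω, x • ω' = ω' := by
      intro ω'
      obtain ⟨g, rfl⟩ := MulAction.exists_smul_eq G ω ω'
      have h1 := hcon ⟨g⁻¹ * x * g, by
        have := Np_conj p g⁻¹ x hxN
        simpa using this⟩
      have h2 : (g⁻¹ * x * g) • ω = ω := h1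
      rw [mul_smul, mul_smul, inv_smul_eq_iff] at h2
      exact h2
    have hx1 : x = 1 := by
      apply FaithfulSMul.eq_of_smul_eq_smul (α := Ω)
      intro ω'
      rw [one_smul]
      exact hall ω'
    rw [hx1, orderOf_one] at hx
    exact hp.out.one_lt.ne hx
  have h := sylow_fix_bound p (Np_gen p) hnf (P.subtype hP)
  have hiff : ∀ ω : Ω, (∀ r ∈ ((P.subtype hP : Sylow p (Np p G)) : Subgroup (Np p G)), r • ω = ω) ↔
      ∀ r ∈ (P : Subgroup G), r • ω = ω := by
    intro ω
    rw [Sylow.coe_subtype]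
    constructor
    · intro h1 r hr
      exact h1 ⟨r, hP hr⟩ (Subgroup.mem_subgroupOf.2 hr)
    · intro h1 r hr
      exact h1 r (Subgroup.mem_subgroupOf.1 hr)
  have hsum : ∑ ω : Ω, wt p ((P.subtype hP : Sylow p (Np p G)) : Subgroup (Np p G)) ω =
      -(p : ℤ) * ((Finset.univ.filter fun ω : Ω => ∀ r ∈ (P : Subgroup G), r • ω = ω).card : ℤ) +
      ((p : ℤ) - 1) * ((Finset.univ.filter fun ω : Ω => ¬ ∀ r ∈ (P : Subgroup G), r • ω = ω).card : ℤ) := by
    simp only [wt, hiff]
    rw [Finset.sum_ite]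
    simp only [Finset.sum_const, nsmul_eq_mul]
    ring
  rw [hsum] at h
  linarith

/-- **Orbits of Sylow subgroups.** -/
theorem orbit_bound [Finite Ω] [FaithfulSMul G Ω] (htrans : MulAction.IsPretransitive G Ω)
    (hpG : p ∣ Nat.card G) (P : Sylow p G) :
    (2 * p - 1) * Nat.card (MulAction.orbitRel.Quotient ↥(P : Subgroup G) Ω) ≤ p * Nat.card Ω := by
  haveI := Fintype.ofFinite Ω
  have hfm := fix_le_moved p htrans hpG P
  set Fx : Finset Ω := Finset.univ.filter fun ω : Ω => ∀ r ∈ (P : Subgroup G), r • ω = ω with hFx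
  set Mv : Finset Ω := Finset.univ.filter fun ω : Ω => ¬ ∀ r ∈ (P : Subgroup G), r • ω = ω with hMv
  have hn : Nat.card Ω = Fx.card + Mv.card := by
    rw [Nat.card_eq_fintype_card, ← Finset.card_univ]
    exact (Finset.card_filter_add_card_filter_not _).symm
  let Q := MulAction.orbitRel.Quotient ↥(P : Subgroup G) Ω
  haveI : Finite Q := Quotient.finite _
  haveI := Fintype.ofFinite Q
  let q : Ω → Q := fun ω => Quotient.mk'' ω
  let t : Ω → ℕ := fun ω => if ∀ r ∈ (P : Subgroup G), r • ω = ω then p else 1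
  have ht : ∑ ω, t ω = p * Fx.card + Mv.card := by
    simp only [t]
    rw [Finset.sum_ite]
    simp only [Finset.sum_const, smul_eq_mul, mul_one]
    rw [mul_comm]
  have hfib : ∀ c : Q, p ≤ ∑ ω ∈ Finset.univ.filter (fun ω => q ω = c), t ω := by
    intro c
    obtain ⟨ω₀, rfl⟩ := Quotient.mk''_surjective c
    have hω₀ : ω₀ ∈ Finset.univ.filter (fun ω => q ω = Quotient.mk'' ω₀) :=
      Finset.mem_filter.2 ⟨Finset.mem_univ _, rfl⟩
    by_cases hfix : ∀ r ∈ (P : Subgroup G), r • ω₀ = ω₀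
    · have h1 := Finset.single_le_sum (f := t) (fun i _ => Nat.zero_le _) hω₀
      have h2 : t ω₀ = p := by simp only [t, if_pos hfix]
      rwa [h2] at h1
    · have h1 := p_le_card_orbit p P.isPGroup' ω₀ hfix
      have h2 : Nat.card (MulAction.orbit ↥(P : Subgroup G) ω₀) ≤
          (Finset.univ.filter (fun ω => q ω = Quotient.mk'' ω₀)).card := by
        rw [Nat.card_coe_set_eq, ← Set.ncard_coe_finset]
        apply Set.ncard_le_ncard _ (Finset.finite_toSet _)
        intro z hz
        refine Finset.mem_coe.2 (Finset.mem_filter.2 ⟨Finset.mem_univ _, ?_⟩)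
        exact Quotient.sound' (MulAction.orbitRel_apply.2 hz)
      have h3 : (Finset.univ.filter (fun ω => q ω = Quotient.mk'' ω₀)).card ≤
          ∑ ω ∈ Finset.univ.filter (fun ω => q ω = Quotient.mk'' ω₀), t ω := by
        rw [Finset.card_eq_sum_ones]
        apply Finset.sum_le_sum
        intro ω _
        simp only [t]
        split_ifs
        · exact hp.out.one_lt.le
        · exact le_refl _
      omega
  have hcount : p * Nat.card Q ≤ p * Fx.card + Mv.card := by
    rw [← ht, ← Finset.sum_fiberwise Finset.univ q t, Nat.card_eq_fintype_card, mul_comm,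
      ← smul_eq_mul, ← Finset.card_univ]
    exact Finset.card_nsmul_le_sum _ _ _ fun c _ => hfib c
  have hp1 : 1 ≤ p := hp.out.one_lt.le
  have hcast : ((2 * p - 1 : ℕ) : ℤ) = 2 * (p : ℤ) - 1 := by
    rw [Nat.cast_sub (by omega)]
    push_cast
    ring
  have hgoal : (2 * (p : ℤ) - 1) * (Nat.card Q : ℤ) ≤ (p : ℤ) * ((Fx.card : ℤ) + Mv.card) := by
    have hP0 : (0 : ℤ) < p := by exact_mod_cast hp.out.pos
    have hP1 : (0 : ℤ) ≤ (p : ℤ) - 1 := by
      have : (1 : ℤ) ≤ p := by exact_mod_cast hp1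
      linarith
    have h1 : (p : ℤ) * (Nat.card Q : ℤ) ≤ (p : ℤ) * Fx.card + Mv.card := by exact_mod_cast hcount
    have h2 : (0 : ℤ) ≤ 2 * (p : ℤ) - 1 := by linarith
    have h3 := mul_le_mul_of_nonneg_left h1 h2
    have h4 := mul_nonneg hP1 (sub_nonneg.2 hfm)
    refine le_of_mul_le_mul_left ?_ hP0
    nlinarith
  have hfinal' : ((2 * p - 1 : ℕ) : ℤ) * (Nat.card Q : ℤ) ≤ (p : ℤ) * (Nat.card Ω : ℤ) := by
    rw [hcast, hn]
    push_cast
    exact hgoal
  exact_mod_cast hfinal'

end

end Cfsg.Agent.SylFix
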